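import Groth.Prelude.Def_GrSeg
import Groth.Prelude.Def_GrLC
import Mathlib.RingTheory.GradedAlgebra.Basic
import Mathlib.RingTheory.FiniteType
import Mathlib.LinearAlgebra.Dual.Lemmas
import Mathlib.RingTheory.Noetherian.Basic
import Mathlib.RingTheory.Artinian.Module

/-!
Calculus of homogeneous components and of the graded dual `GrSeg.IsGDual` over a field.
-/

set_option autoImplicit false
set_option linter.unusedSectionVars false
universe u

open DirectSum

namespace K993.Basic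

/-! ### homogeneous components -/

section Comp

variable {M : Type u} [AddCommGroup M] {τ : Type u} [SetLike τ M] [AddSubgroupClass τ M]
  (ℳ : ℤ → τ) [Decomposition ℳ]

/-- the homogeneous component of degree `n`, as an additive map -/
def cp (n : ℤ) : M →+ M :=
  (AddSubgroupClass.subtype (ℳ n)).comp
    ((DFinsupp.evalAddMonoidHom n).comp (decomposeAddEquiv ℳ).toAddMonoidHom)

theorem cp_eq (n : ℤ) (x : M) : cp ℳ n x = (decompose ℳ x n : M) := rfl

theorem cp_mem (n : ℤ) (x : M) : cp ℳ n x ∈ ℳ n := (decompose ℳ x n).2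

theorem cp_same {n : ℤ} {x : M} (hx : x ∈ ℳ n) : cp ℳ n x = x := decompose_of_mem_same ℳ hx

theorem cp_ne {n m : ℤ} {x : M} (hx : x ∈ ℳ n) (h : n ≠ m) : cp ℳ m x = 0 :=
  decompose_of_mem_ne ℳ hx h

theorem cp_of_mem {n : ℤ} {x : M} (hx : x ∈ ℳ n) (m : ℤ) : cp ℳ m x = if m = n then x else 0 := by
  split
  · subst m; exact cp_same ℳ hx
  · exact cp_ne ℳ hx (Ne.symm ‹_›)

theorem cp_cp (n m : ℤ) (x : M) : cp ℳ m (cp ℳ n x) = if m = n then cp ℳ n x else 0 :=
  cp_of_mem ℳ (cp_mem ℳ n x) m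

theorem exists_finset (x : M) : ∃ s : Finset ℤ, (∑ n ∈ s, cp ℳ n x) = x ∧ ∀ n ∉ s, cp ℳ n x = 0 := by
  classical
  refine ⟨(decompose ℳ x).support, sum_support_decompose ℳ x, fun n hn => ?_⟩
  rw [DFinsupp.notMem_support_iff] at hn
  rw [cp_eq, hn]; rfl

theorem ext_cp {x y : M} (h : ∀ n, cp ℳ n x = cp ℳ n y) : x = y := by
  apply (decompose ℳ).injective
  ext n
  exact h n

theorem eq_zero_of_cp {x : M} (h : ∀ n, cp ℳ n x = 0) : x = 0 :=
  ext_cp ℳ (fun n => by rw [h n, map_zero])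

theorem cp_sum_of_finset {x : M} {s : Finset ℤ} (h : ∀ n ∉ s, cp ℳ n x = 0) :
    (∑ n ∈ s, cp ℳ n x) = x := by
  apply ext_cp ℳ
  intro m
  rw [map_sum]
  simp only [cp_cp]
  rw [Finset.sum_ite_eq]
  split
  · rfl
  · exact (h m ‹_›).symm

/-- induction on homogeneous elements -/
theorem hom_induction {p : M → Prop} (h0 : p 0) (hadd : ∀ x y, p x → p y → p (x + y))
    (hh : ∀ n x, x ∈ ℳ n → p x) (x : M) : p x := by
  obtain ⟨s, hs, -⟩ := exists_finset ℳ x
  rw [← hs]
  exact Finset.sum_induction _ p hadd h0 (fun n _ => hh n _ (cp_mem ℳ n x))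

theorem exists_bounds (x : M) : ∃ a b : ℤ, ∀ n, (n < a ∨ b < n) → cp ℳ n x = 0 := by
  obtain ⟨s, -, hs⟩ := exists_finset ℳ x
  by_cases h : s.Nonempty
  · refine ⟨s.min' h, s.max' h, fun n hn => hs n fun hmem => ?_⟩
    rcases hn with hn | hn
    · exact absurd (s.min'_le n hmem) (not_le.2 hn)
    · exact absurd (s.le_max' n hmem) (not_le.2 hn)
  · rw [Finset.not_nonempty_iff_eq_empty] at h
    exact ⟨0, 0, fun n _ => hs n (by simp [h])⟩

end Comp

/-! ### graded modules over a graded algebra -/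

section Graded

variable {k : Type u} [Field k] {R : Type u} [CommRing R] [Algebra k R]
  (𝒜 : ℤ → Submodule k R) [GradedAlgebra 𝒜]
  {M : Type u} [AddCommGroup M] [Module R M] {τ : Type u} [SetLike τ M] [AddSubgroupClass τ M]
  (ℳ : ℤ → τ) [Decomposition ℳ] [SetLike.GradedSMul 𝒜 ℳ]

include 𝒜 in
theorem smul_mem' {i j : ℤ} {r : R} {x : M} (hr : r ∈ 𝒜 i) (hx : x ∈ ℳ j) : r • x ∈ ℳ (i + j) :=
  SetLike.GradedSMul.smul_mem (A := 𝒜) (B := ℳ) hr hx

include 𝒜 in
theorem cp_smul_homog {i : ℤ} {r : R} (hr : r ∈ 𝒜 i) (n : ℤ) (x : M) :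
    cp ℳ n (r • x) = r • cp ℳ (n - i) x := by
  induction x using hom_induction ℳ with
  | h0 => simp
  | hadd x y hx hy => rw [smul_add, map_add, hx, hy, map_add, smul_add]
  | hh j x hx =>
    have h1 : r • x ∈ ℳ (i + j) := smul_mem' 𝒜 ℳ hr hx
    rw [cp_of_mem ℳ h1, cp_of_mem ℳ hx]
    by_cases h : n = i + j
    · rw [if_pos h, if_pos (by omega)]
    · rw [if_neg h, if_neg (by omega), smul_zero]

include 𝒜 in
theorem algebraMap_mem (c : k) : algebraMap k R c ∈ 𝒜 0 := SetLike.algebraMap_mem_graded 𝒜 c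

variable [Module k M] [IsScalarTower k R M]

include 𝒜 in
theorem ksmul_mem {n : ℤ} {x : M} (c : k) (hx : x ∈ ℳ n) : c • x ∈ ℳ n := by
  rw [← algebraMap_smul R c x]
  have := smul_mem' 𝒜 ℳ (algebraMap_mem 𝒜 c) hx
  rwa [zero_add] at this

include 𝒜 in
theorem cp_ksmul (n : ℤ) (c : k) (x : M) : cp ℳ n (c • x) = c • cp ℳ n x := by
  rw [← algebraMap_smul R c x, cp_smul_homog 𝒜 ℳ (algebraMap_mem 𝒜 c), sub_zero, algebraMap_smul]

/-- the homogeneous piece as a `k`-subspace -/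
def kp (n : ℤ) : Submodule k M where
  carrier := (ℳ n : Set M)
  add_mem' ha hb := add_mem ha hb
  zero_mem' := zero_mem _
  smul_mem' c _ hx := ksmul_mem 𝒜 ℳ c hx

theorem mem_kp {n : ℤ} {x : M} : x ∈ kp (k := k) 𝒜 ℳ n ↔ x ∈ ℳ n := Iff.rfl

/-- the component map as a `k`-linear map -/
def cpk (n : ℤ) : M →ₗ[k] M where
  toFun := cp ℳ n
  map_add' := map_add _
  map_smul' c x := cp_ksmul 𝒜 ℳ n c x

@[simp] theorem cpk_apply (n : ℤ) (x : M) : cpk (k := k) 𝒜 ℳ n x = cp ℳ n x := rfl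

/-- functionals separate points -/
theorem exists_functional_ne {V : Type u} [AddCommGroup V] [Module k V] {x : V} (hx : x ≠ 0) :
    ∃ g : V →ₗ[k] k, g x ≠ 0 := by
  by_contra h
  push Not at h
  exact hx ((Module.forall_dual_apply_eq_zero_iff k x).1 h)

/-- functionals separate a point from a subspace -/
theorem exists_functional_of_notMem {V : Type u} [AddCommGroup V] [Module k V] {W : Submodule k V} {x : V}
    (hx : x ∉ W) : ∃ g : V →ₗ[k] k, (∀ w ∈ W, g w = 0) ∧ g x ≠ 0 := by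
  have : W.mkQ x ≠ 0 := by
    rwa [Ne, Submodule.mkQ_apply, Submodule.Quotient.mk_eq_zero]
  obtain ⟨g, hg⟩ := exists_functional_ne (k := k) this
  refine ⟨g ∘ₗ W.mkQ, fun w hw => ?_, hg⟩
  rw [LinearMap.comp_apply, Submodule.mkQ_apply, (Submodule.Quotient.mk_eq_zero W).2 hw, map_zero]

end Graded

/-! ### graded duals -/

section Dual

variable {k : Type u} [Field k] {R : Type u} [CommRing R] [Algebra k R]
  {M : Type u} [AddCommGroup M] [Module R M] [Module k M] [IsScalarTower k R M]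
  {τ : Type u} [SetLike τ M] [AddSubgroupClass τ M]
  {ℳ : ℤ → τ} [Decomposition ℳ]
  {D : Type u} [AddCommGroup D] [Module R D] [Module k D] [IsScalarTower k R D]
  {τ' : Type u} [SetLike τ' D] [AddSubgroupClass τ' D]
  {𝒟 : ℤ → τ'} [Decomposition 𝒟]
  {β : D →ₗ[k] M →ₗ[k] k} (h : GrSeg.IsGDual R ℳ 𝒟 β)

include h

theorem beta_right {m : ℤ} {x : M} (hx : x ∈ ℳ m) (d : D) : β d x = β (cp 𝒟 (-m) d) x := by
  induction d using hom_induction 𝒟 with
  | h0 => simp
  | hadd x y hx hy => rw [map_add, map_add, map_add, LinearMap.add_apply, LinearMap.add_apply, hx, hy]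
  | hh j d hd =>
    rw [cp_of_mem 𝒟 hd]
    split
    · rfl
    · rw [h.vanish j d hd m (by omega) x hx]; simp

theorem beta_left {n : ℤ} {d : D} (hd : d ∈ 𝒟 n) (x : M) : β d x = β d (cp ℳ (-n) x) := by
  induction x using hom_induction ℳ with
  | h0 => simp
  | hadd x y hx hy => rw [map_add, map_add, map_add, hx, hy]
  | hh j x hx =>
    rw [cp_of_mem ℳ hx]
    split
    · rfl
    · rw [h.vanish n d hd j (by omega) x hx]; simp

theorem beta_cp (n : ℤ) (d : D) (x : M) : β (cp 𝒟 n d) x = β d (cp ℳ (-n) x) := by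
  rw [beta_left h (cp_mem 𝒟 n d), beta_right h (cp_mem ℳ (-n) x) d, neg_neg]

theorem beta_inj {d : D} (hd : ∀ x, β d x = 0) : d = 0 := by
  apply eq_zero_of_cp 𝒟
  intro n
  apply h.eq_zero n _ (cp_mem 𝒟 n d)
  intro x hx
  rw [beta_cp h, hd]

theorem beta_injective : Function.Injective β := by
  rw [injective_iff_map_eq_zero]
  intro d hd
  exact beta_inj h (fun x => by rw [hd]; rfl)

theorem beta_ext {d d' : D} (hd : ∀ x, β d x = β d' x) : d = d' :=
  beta_injective h (LinearMap.ext hd)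

/-- every functional on one piece is represented -/
theorem exists_rep_piece (m : ℤ) (g : M →ₗ[k] k) : ∃ d ∈ 𝒟 (-m), ∀ x, β d x = g (cp ℳ m x) := by
  obtain ⟨d, hd, h1⟩ := h.exists_eq (-m) g
  refine ⟨d, hd, fun x => ?_⟩
  rw [beta_left h hd, h1, neg_neg]
  exact cp_mem ℳ _ x

/-- every functional with finitely many nonzero components is represented -/
theorem exists_rep (s : Finset ℤ) (g : M →ₗ[k] k) (hg : ∀ m ∉ s, ∀ x ∈ ℳ m, g x = 0) :
    ∃ d : D, ∀ x, β d x = g x := by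
  choose d _ hd using fun m => exists_rep_piece h m g
  refine ⟨∑ m ∈ s, d m, fun x => ?_⟩
  rw [map_sum, LinearMap.sum_apply]
  simp only [hd]
  obtain ⟨t, ht, ht'⟩ := exists_finset ℳ x
  rw [← map_sum]
  classical
  have h1 : x = ∑ m ∈ s ∪ t, cp ℳ m x :=
    (cp_sum_of_finset ℳ (fun n hn => ht' n (fun hh => hn (Finset.mem_union_right _ hh)))).symm
  conv_rhs => rw [h1]
  rw [map_sum, map_sum]
  apply Finset.sum_subset Finset.subset_union_left
  intro m _ hm
  exact hg m hm _ (cp_mem ℳ m x)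

theorem exists_beta_ne {x : M} (hx : x ≠ 0) : ∃ d : D, β d x ≠ 0 := by
  by_contra hcon
  push Not at hcon
  apply hx
  apply eq_zero_of_cp ℳ
  intro m
  by_contra hne
  obtain ⟨g, hg⟩ := exists_functional_ne (k := k) hne
  obtain ⟨d, -, hd⟩ := exists_rep_piece h m g
  exact hg (by rw [← hd, hcon])

theorem exists_beta_ne_homog {m : ℤ} {x : M} (hx : x ≠ 0) (hm : x ∈ ℳ m) : ∃ d ∈ 𝒟 (-m), β d x ≠ 0 := by
  obtain ⟨g, hg⟩ := exists_functional_ne (k := k) hx
  obtain ⟨d, hd, hd'⟩ := exists_rep_piece h m g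
  exact ⟨d, hd, by rwa [hd', cp_same ℳ hm]⟩

theorem beta_ext_right {x y : M} (hxy : ∀ d, β d x = β d y) : x = y := by
  by_contra hne
  obtain ⟨d, hd⟩ := exists_beta_ne h (sub_ne_zero.2 hne)
  exact hd (by rw [map_sub, hxy, sub_self])

/-- membership in a piece of the dual -/
theorem mem_piece_iff {n : ℤ} {d : D} :
    d ∈ 𝒟 n ↔ ∀ m ≠ -n, ∀ x ∈ ℳ m, β d x = 0 := by
  constructor
  · intro hd m hm x hx
    exact h.vanish n d hd m hm x hx
  · intro H
    have : d = cp 𝒟 n d := by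
      apply beta_ext h
      intro x
      rw [beta_cp h]
      induction x using hom_induction ℳ with
      | h0 => simp
      | hadd x y hx hy => rw [map_add, map_add, map_add, hx, hy]
      | hh j x hx =>
        rw [cp_of_mem ℳ hx]
        split
        · rfl
        · rw [H j (Ne.symm ‹_›) x hx, map_zero]
    rw [this]
    exact cp_mem 𝒟 n d

end Dual

end K993.Basic
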