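import Groth.Agent.GrDual.K993.Perp
import Mathlib.RingTheory.FiniteLength
import Mathlib.RingTheory.Polynomial.Basic

/-!
Graded modules over a positively graded ring with degree-zero part a field `k`: pieces of Noetherian and of
Artinian graded modules are finite-dimensional, degrees are bounded below / above, and a graded module with
bounded above degrees and the descending chain condition for homogeneous submodules is Artinian.
-/

set_option autoImplicit false
set_option linter.unusedSectionVars false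
universe u

open DirectSum K993.Basic K993.Perp

namespace K993.Fin

section

variable {k : Type u} [Field k] {R : Type u} [CommRing R] [Algebra k R]
  (𝒜 : ℤ → Submodule k R) [GradedAlgebra 𝒜]
  (hposR : ∀ n : ℤ, n < 0 → 𝒜 n = ⊥) (h0R : 𝒜 0 = Submodule.span k {(1 : R)})
  {M : Type u} [AddCommGroup M] [Module R M] [Module k M] [IsScalarTower k R M]
  {τ : Type u} [SetLike τ M] [AddSubgroupClass τ M]
  (ℳ : ℤ → τ) [Decomposition ℳ] [SetLike.GradedSMul 𝒜 ℳ]

include hposR in
/-- to check that a property additive in `r` holds it suffices to check homogeneous elements of nonneg degree -/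
theorem r_induction {p : R → Prop} (h0 : p 0) (hadd : ∀ x y, p x → p y → p (x + y))
    (hh : ∀ (n : ℤ), 0 ≤ n → ∀ x ∈ 𝒜 n, p x) (r : R) : p r := by
  induction r using hom_induction 𝒜 with
  | h0 => exact h0
  | hadd x y hx hy => exact hadd x y hx hy
  | hh n x hx =>
    by_cases hn : 0 ≤ n
    · exact hh n hn x hx
    · rw [hposR n (by omega), Submodule.mem_bot] at hx
      rw [hx]; exact h0

include h0R in
theorem exists_scalar {r : R} (hr : r ∈ 𝒜 0) : ∃ c : k, r = algebraMap k R c := by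
  rw [h0R, Submodule.mem_span_singleton] at hr
  obtain ⟨c, rfl⟩ := hr
  exact ⟨c, by rw [Algebra.algebraMap_eq_smul_one]⟩

/-- the submodule of elements with components of degree `< n` zero and degree `n` component in `V` -/
def pieceExt (n : ℤ) (V : Submodule k M) : Submodule R M where
  carrier := {x | (∀ i < n, cp ℳ i x = 0) ∧ cp ℳ n x ∈ V}
  zero_mem' := ⟨fun i _ => map_zero _, by rw [map_zero]; exact V.zero_mem⟩
  add_mem' {x y} hx hy := ⟨fun i hi => by rw [map_add, hx.1 i hi, hy.1 i hi, add_zero], by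
    rw [map_add]; exact V.add_mem hx.2 hy.2⟩
  smul_mem' := by
    rintro r x ⟨hx, hx'⟩
    induction r using r_induction 𝒜 hposR with
    | h0 => rw [zero_smul]; exact ⟨fun i _ => map_zero _, by rw [map_zero]; exact V.zero_mem⟩
    | hadd r s hr hs =>
      rw [add_smul]
      exact ⟨fun i hi => by rw [map_add, hr.1 i hi, hs.1 i hi, add_zero], by
        rw [map_add]; exact V.add_mem hr.2 hs.2⟩
    | hh j hj r hr =>
      refine ⟨fun i hi => ?_, ?_⟩
      · rw [cp_smul_homog 𝒜 ℳ hr, hx _ (by omega), smul_zero]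
      · rw [cp_smul_homog 𝒜 ℳ hr]
        rcases hj.eq_or_lt with rfl | hj
        · rw [sub_zero]
          obtain ⟨c, rfl⟩ := exists_scalar 𝒜 h0R hr
          rw [algebraMap_smul]
          exact V.smul_mem c hx'
        · rw [hx _ (by omega), smul_zero]
          exact V.zero_mem

theorem mem_pieceExt {n : ℤ} {V : Submodule k M} {x : M} :
    x ∈ pieceExt 𝒜 hposR h0R ℳ n V ↔ (∀ i < n, cp ℳ i x = 0) ∧ cp ℳ n x ∈ V := Iff.rfl

theorem pieceExt_strictMono (n : ℤ) :
    StrictMono fun V : Submodule k (kp (k := k) 𝒜 ℳ n) =>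
      pieceExt 𝒜 hposR h0R ℳ n (V.map (kp (k := k) 𝒜 ℳ n).subtype) := by
  intro V W hVW
  rw [SetLike.lt_iff_le_and_exists] at hVW ⊢
  obtain ⟨hle, w, hw, hw'⟩ := hVW
  refine ⟨fun x hx => ⟨hx.1, Submodule.map_mono hle hx.2⟩, w, ?_, ?_⟩
  · refine ⟨fun i hi => cp_ne ℳ w.2 (by omega), ?_⟩
    rw [cp_same ℳ w.2]
    exact ⟨w, hw, rfl⟩
  · rintro ⟨-, h2⟩
    rw [cp_same ℳ w.2] at h2
    obtain ⟨w', h3, h4⟩ := h2
    have : w' = w := Subtype.ext h4
    exact hw' (this ▸ h3)

include hposR h0R in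
theorem finite_piece_of_isNoetherian [IsNoetherian R M] (n : ℤ) :
    Module.Finite k (kp (k := k) 𝒜 ℳ n) := by
  have h1 : WellFoundedGT (Submodule R M) := isNoetherian_iff'.1 inferInstance
  have h2 : WellFoundedGT (Submodule k (kp (k := k) 𝒜 ℳ n)) :=
    (pieceExt_strictMono 𝒜 hposR h0R ℳ n).wellFoundedGT
  have : IsNoetherian k (kp (k := k) 𝒜 ℳ n) := isNoetherian_iff'.2 h2
  infer_instance

include hposR h0R in
theorem finite_piece_of_isArtinian [IsArtinian R M] (n : ℤ) :
    Module.Finite k (kp (k := k) 𝒜 ℳ n) := by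
  have h1 : WellFoundedLT (Submodule R M) := ‹IsArtinian R M›
  have h2 : WellFoundedLT (Submodule k (kp (k := k) 𝒜 ℳ n)) :=
    (pieceExt_strictMono 𝒜 hposR h0R ℳ n).wellFoundedLT
  have : IsArtinian k (kp (k := k) 𝒜 ℳ n) := h2
  exact (IsSemisimpleModule.finite_tfae (R := k) (M := kp (k := k) 𝒜 ℳ n)).out 2 0 |>.1 this

include hposR h0R in
/-- a Noetherian graded module is bounded below -/
theorem bounded_below [IsNoetherian R M] : ∃ a : ℤ, ∀ n < a, ∀ x ∈ ℳ n, x = 0 := by
  obtain ⟨n, hn⟩ := monotone_stabilizes_iff_noetherian.2 ‹IsNoetherian R M›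
    ⟨fun n : ℕ => pieceExt 𝒜 hposR h0R ℳ (-(n : ℤ)) ⊤, fun a b hab x hx => by
      refine ⟨fun i hi => hx.1 i ?_, trivial⟩
      have : (a : ℤ) ≤ b := by exact_mod_cast hab
      omega⟩
  refine ⟨-(n : ℤ), fun m hm x hx => ?_⟩
  have hx' : x ∈ pieceExt 𝒜 hposR h0R ℳ (-((-m).toNat : ℤ)) ⊤ := by
    refine ⟨fun i hi => cp_ne ℳ hx (by omega), trivial⟩
  have := hn (-m).toNat (by omega)
  change pieceExt 𝒜 hposR h0R ℳ _ ⊤ = pieceExt 𝒜 hposR h0R ℳ _ ⊤ at this
  rw [← this] at hx'
  rw [← cp_same ℳ hx]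
  exact hx'.1 m hm

include hposR h0R in
/-- an Artinian graded module is bounded above -/
theorem bounded_above [IsArtinian R M] : ∃ b : ℤ, ∀ n > b, ∀ x ∈ ℳ n, x = 0 := by
  obtain ⟨n, hn⟩ := IsArtinian.monotone_stabilizes (R := R) (M := M)
    ⟨fun n : ℕ => OrderDual.toDual (pieceExt 𝒜 hposR h0R ℳ (n : ℤ) ⊤), fun a b hab x hx => by
      refine ⟨fun i hi => hx.1 i ?_, trivial⟩
      have : (a : ℤ) ≤ b := by exact_mod_cast hab
      omega⟩
  refine ⟨n, fun m hm x hx => ?_⟩
  have hx' : x ∈ pieceExt 𝒜 hposR h0R ℳ (n : ℤ) ⊤ := by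
    refine ⟨fun i hi => cp_ne ℳ hx (by omega), trivial⟩
  have := hn (m + 1).toNat (by omega)
  change pieceExt 𝒜 hposR h0R ℳ _ ⊤ = pieceExt 𝒜 hposR h0R ℳ _ ⊤ at this
  rw [this] at hx'
  rw [← cp_same ℳ hx]
  exact hx'.1 m (by omega)

/-- the submodule of initial (lowest degree) forms of a submodule -/
def initial (P : Submodule R M) : Submodule R M where
  carrier := {y | ∀ n, ∃ x ∈ P, (∀ i < n, cp ℳ i x = 0) ∧ cp ℳ n x = cp ℳ n y}
  zero_mem' n := ⟨0, P.zero_mem, fun i _ => map_zero _, rfl⟩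
  add_mem' {y y'} hy hy' n := by
    obtain ⟨x, hx, h1, h2⟩ := hy n
    obtain ⟨x', hx', h1', h2'⟩ := hy' n
    exact ⟨x + x', P.add_mem hx hx', fun i hi => by rw [map_add, h1 i hi, h1' i hi, add_zero], by
      rw [map_add, map_add, h2, h2']⟩
  smul_mem' := by
    intro r y hy
    induction r using r_induction 𝒜 hposR with
    | h0 => intro n; exact ⟨0, P.zero_mem, fun i _ => map_zero _, by rw [zero_smul]⟩
    | hadd r s hr hs =>
      intro n
      obtain ⟨x, hx, h1, h2⟩ := hr n
      obtain ⟨x', hx', h1', h2'⟩ := hs n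
      exact ⟨x + x', P.add_mem hx hx', fun i hi => by rw [map_add, h1 i hi, h1' i hi, add_zero], by
        rw [add_smul, map_add, map_add, h2, h2']⟩
    | hh j hj r hr =>
      intro n
      obtain ⟨x, hx, h1, h2⟩ := hy (n - j)
      refine ⟨r • x, P.smul_mem r hx, fun i hi => ?_, ?_⟩
      · rw [cp_smul_homog 𝒜 ℳ hr, h1 _ (by omega), smul_zero]
      · rw [cp_smul_homog 𝒜 ℳ hr, cp_smul_homog 𝒜 ℳ hr, h2]

theorem initial_mono {P Q : Submodule R M} (hPQ : P ≤ Q) :
    initial 𝒜 hposR ℳ P ≤ initial 𝒜 hposR ℳ Q := by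
  intro y hy n
  obtain ⟨x, hx, h⟩ := hy n
  exact ⟨x, hPQ hx, h⟩

theorem initial_homog (P : Submodule R M) : (initial 𝒜 hposR ℳ P).IsHomogeneous ℳ := by
  intro m y hy
  change cp ℳ m y ∈ initial 𝒜 hposR ℳ P
  intro n
  by_cases h : n = m
  · subst h
    obtain ⟨x, hx, h1, h2⟩ := hy n
    exact ⟨x, hx, h1, by rw [h2, cp_cp, if_pos rfl]⟩
  · exact ⟨0, P.zero_mem, fun i _ => map_zero _, by rw [cp_cp, if_neg h, map_zero]⟩

theorem eq_of_initial_eq {P Q : Submodule R M} (b : ℤ) (hb : ∀ n > b, ∀ x ∈ ℳ n, x = 0)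
    (hPQ : P ≤ Q) (heq : initial 𝒜 hposR ℳ Q ≤ initial 𝒜 hposR ℳ P) : P = Q := by
  apply le_antisymm hPQ
  have key : ∀ (t : ℕ) (n : ℤ), (b + 1 - n).toNat = t → ∀ x ∈ Q, (∀ i < n, cp ℳ i x = 0) → x ∈ P := by
    intro t
    induction t with
    | zero =>
      intro n hn x _ hx
      have : x = 0 := by
        apply eq_zero_of_cp ℳ
        intro i
        by_cases hi : i < n
        · exact hx i hi
        · exact hb i (by omega) _ (cp_mem ℳ i x)
      rw [this]; exact P.zero_mem
    | succ t ih =>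
      intro n hn x hxQ hx
      have hin : cp ℳ n x ∈ initial 𝒜 hposR ℳ Q := by
        intro m
        by_cases h : m = n
        · subst h
          exact ⟨x, hxQ, hx, by rw [cp_cp, if_pos rfl]⟩
        · exact ⟨0, Q.zero_mem, fun i _ => map_zero _, by rw [cp_cp, if_neg h, map_zero]⟩
      obtain ⟨x', hx'P, h1, h2⟩ := heq hin n
      rw [cp_cp, if_pos rfl] at h2
      have h3 : x - x' ∈ P := by
        apply ih (n + 1) (by omega) (x - x') (Q.sub_mem hxQ (hPQ hx'P))
        intro i hi
        rw [map_sub]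
        rcases lt_or_eq_of_le (show i ≤ n by omega) with h | h
        · rw [hx i h, h1 i h, sub_zero]
        · subst h
          rw [h2, sub_self]
      have := P.add_mem h3 hx'P
      rwa [sub_add_cancel] at this
  intro x hx
  obtain ⟨a, _, ha⟩ := exists_bounds ℳ x
  exact key _ a rfl x hx (fun i hi => ha i (Or.inl hi))

/-- the initial-form map to homogeneous submodules -/
def initialH (P : Submodule R M) : HomogeneousSubmodule 𝒜 ℳ :=
  ⟨initial 𝒜 hposR ℳ P, initial_homog 𝒜 hposR ℳ P⟩

theorem initialH_strictMono (b : ℤ) (hb : ∀ n > b, ∀ x ∈ ℳ n, x = 0) :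
    StrictMono (initialH 𝒜 hposR ℳ (M := M)) := by
  intro P Q hPQ
  rw [lt_iff_le_not_ge]
  refine ⟨initial_mono 𝒜 hposR ℳ hPQ.le, fun hcon => ?_⟩
  exact hPQ.ne (eq_of_initial_eq 𝒜 hposR ℳ b hb hPQ.le hcon)

include hposR in
/-- a bounded above graded module with DCC on homogeneous submodules is Artinian -/
theorem isArtinian_of_homogeneous (b : ℤ) (hb : ∀ n > b, ∀ x ∈ ℳ n, x = 0)
    (hdcc : WellFoundedLT (HomogeneousSubmodule 𝒜 ℳ)) : IsArtinian R M := by
  have := (initialH_strictMono 𝒜 hposR ℳ b hb).wellFoundedLT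
  exact this

/-- a graded module with ACC on homogeneous submodules is finitely generated -/
theorem finite_of_homogeneous (hacc : WellFoundedGT (HomogeneousSubmodule 𝒜 ℳ)) : Module.Finite R M := by
  have hbot : ((⊥ : Submodule R M)).IsHomogeneous ℳ := by
    intro i x hx
    have hx0 : x = 0 := (Submodule.mem_bot R).1 hx
    subst hx0
    rw [decompose_zero]
    exact Submodule.zero_mem _
  obtain ⟨N, hN, hmax⟩ := WellFounded.has_min hacc.wf
    {N : HomogeneousSubmodule 𝒜 ℳ | N.toSubmodule.FG} ⟨⟨⊥, hbot⟩, Submodule.fg_bot⟩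
  rw [Module.finite_def]
  have htop : N.toSubmodule = ⊤ := by
    rw [eq_top_iff]
    intro x _
    induction x using hom_induction ℳ with
    | h0 => exact Submodule.zero_mem _
    | hadd x y hx hy => exact Submodule.add_mem _ (hx trivial) (hy trivial)
    | hh n x hx =>
      by_contra hcon
      have hh : (N.toSubmodule ⊔ Submodule.span R {x}).IsHomogeneous ℳ := by
        intro i y hy
        obtain ⟨a, ha, b, hb, rfl⟩ := Submodule.mem_sup.1 hy
        obtain ⟨r, rfl⟩ := Submodule.mem_span_singleton.1 hb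
        change cp ℳ i (a + r • x) ∈ _
        rw [map_add]
        apply Submodule.add_mem
        · exact Submodule.mem_sup_left (N.is_homogeneous' i ha)
        · apply Submodule.mem_sup_right
          clear hy hb
          induction r using hom_induction 𝒜 with
          | h0 => rw [zero_smul, map_zero]; exact Submodule.zero_mem _
          | hadd r s hr hs => rw [add_smul, map_add]; exact Submodule.add_mem _ hr hs
          | hh j r hr =>
            rw [cp_smul_homog 𝒜 ℳ hr, cp_of_mem ℳ hx]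
            split
            · exact Submodule.smul_mem _ _ (Submodule.mem_span_singleton_self x)
            · rw [smul_zero]; exact Submodule.zero_mem _
      refine hmax ⟨_, hh⟩ ?_ ?_
      · exact Submodule.FG.sup hN (Submodule.fg_span_singleton x)
      · change N < _
        rw [SetLike.lt_iff_le_and_exists]
        refine ⟨fun z hz => (le_sup_left : N.toSubmodule ≤ N.toSubmodule ⊔ Submodule.span R {x}) hz, x,
          Submodule.mem_sup_right (Submodule.mem_span_singleton_self x), hcon⟩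
  rw [← htop]
  exact hN

end

end K993.Fin
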