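import Groth.Agent.GrDual.K993.Matlis

/-!
The graded dual of the ring is the injective hull of the residue field in the graded category; minimal surjections
are dual to essential injections.
-/

set_option autoImplicit false
set_option linter.unusedSectionVars false
universe u

open DirectSum K993.Basic K993.Perp K993.Fin K993.Matlis

namespace K993.Hull

theorem grHom_cp {R : Type u} [CommRing R] {M : Type u} [AddCommGroup M] [Module R M]
    {τ : Type u} [SetLike τ M] [AddSubgroupClass τ M] {ℳ : ℤ → τ} [Decomposition ℳ]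
    {N : Type u} [AddCommGroup N] [Module R N]
    {τ' : Type u} [SetLike τ' N] [AddSubgroupClass τ' N] {𝒩 : ℤ → τ'} [Decomposition 𝒩]
    {f : M →ₗ[R] N} (hf : GrLC.IsGrHom ℳ 𝒩 f) (n : ℤ) (x : M) : f (cp ℳ n x) = cp 𝒩 n (f x) := by
  induction x using hom_induction ℳ with
  | h0 => simp
  | hadd x y hx hy => rw [map_add, map_add, map_add, map_add, hx, hy]
  | hh j x hx =>
    rw [cp_of_mem ℳ hx, cp_of_mem 𝒩 (hf j x hx)]
    split
    · rfl
    · exact map_zero f

section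

variable {k : Type u} [Field k] {R : Type u} [CommRing R] [Algebra k R]
  (𝒜 : ℤ → Submodule k R) [GradedAlgebra 𝒜]
  (hposR : ∀ n : ℤ, n < 0 → 𝒜 n = ⊥) (h0R : 𝒜 0 = Submodule.span k {(1 : R)})
  (mR : HomogeneousIdeal 𝒜) (hmR : mR.toIdeal = Ideal.span (⋃ n ∈ Set.Ioi (0 : ℤ), (𝒜 n : Set R)))

include hmR in
theorem mem_mR {n : ℤ} (hn : 0 < n) {r : R} (hr : r ∈ 𝒜 n) : r ∈ mR.toIdeal := by
  rw [hmR]
  apply Ideal.subset_span
  simp only [Set.mem_iUnion]
  exact ⟨n, hn, hr⟩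

include hposR h0R hmR in
theorem cp_zero_of_mem_mR {r : R} (hr : r ∈ mR.toIdeal) : cp 𝒜 0 r = 0 := by
  have hle : mR.toIdeal ≤ pieceExt (M := R) 𝒜 hposR h0R 𝒜 1 ⊤ := by
    rw [hmR, Ideal.span, Submodule.span_le]
    intro r hr
    simp only [Set.mem_iUnion] at hr
    obtain ⟨n, hn, hr⟩ := hr
    have hn' : 0 < n := hn
    exact ⟨fun i hi => cp_ne 𝒜 hr (by omega), trivial⟩
  exact (hle hr).1 0 (by norm_num)

include hmR in
/-- an element killed by the homogeneous elements of positive degree is killed by `R_+` -/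
theorem smul_eq_zero_of_pos {D : Type u} [AddCommGroup D] [Module R D] {d : D}
    (hd : ∀ (i : ℤ), 0 < i → ∀ r ∈ 𝒜 i, r • d = 0) {a : R} (ha : a ∈ mR.toIdeal) : a • d = 0 := by
  have hle : mR.toIdeal ≤ LinearMap.ker (LinearMap.toSpanSingleton R D d) := by
    rw [hmR, Ideal.span_le]
    intro r hr
    simp only [Set.mem_iUnion] at hr
    obtain ⟨n, hn, hr⟩ := hr
    exact hd n hn r hr
  exact hle ha

variable {M : Type u} [AddCommGroup M] [Module R M] [Module k M] [IsScalarTower k R M]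
  {τ : Type u} [SetLike τ M] [AddSubgroupClass τ M]
  {ℳ : ℤ → τ} [Decomposition ℳ] [SetLike.GradedSMul 𝒜 ℳ]

/-- `R_+ M` is homogeneous -/
theorem cp_mem_smul_top {x : M} (hx : x ∈ mR.toIdeal • (⊤ : Submodule R M)) (n : ℤ) :
    cp ℳ n x ∈ mR.toIdeal • (⊤ : Submodule R M) := by
  induction hx using Submodule.smul_induction_on' with
  | smul a ha y _ =>
    obtain ⟨s, hs, -⟩ := exists_finset 𝒜 a
    rw [← hs, Finset.sum_smul, map_sum]
    apply Submodule.sum_mem
    intro i _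
    rw [cp_smul_homog 𝒜 ℳ (cp_mem 𝒜 i a)]
    exact Submodule.smul_mem_smul (mR.is_homogeneous' i ha) trivial
  | add x _ y _ hx hy => rw [map_add]; exact Submodule.add_mem _ hx hy

variable {DM : Type u} [AddCommGroup DM] [Module R DM] [Module k DM] [IsScalarTower k R DM]
  {τM : Type u} [SetLike τM DM] [AddSubgroupClass τM DM]
  {𝒟M : ℤ → τM} [Decomposition 𝒟M] [SetLike.GradedSMul 𝒜 𝒟M]
  {βM : DM →ₗ[k] M →ₗ[k] k} (hM : GrSeg.IsGDual R ℳ 𝒟M βM)
  {F : Type u} [AddCommGroup F] [Module R F] [Module k F] [IsScalarTower k R F]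
  {σ : Type u} [SetLike σ F] [AddSubgroupClass σ F]
  {ℱ : ℤ → σ} [Decomposition ℱ] [SetLike.GradedSMul 𝒜 ℱ]
  {DF : Type u} [AddCommGroup DF] [Module R DF] [Module k DF] [IsScalarTower k R DF]
  {τF : Type u} [SetLike τF DF] [AddSubgroupClass τF DF]
  {𝒟F : ℤ → τF} [Decomposition 𝒟F] [SetLike.GradedSMul 𝒜 𝒟F]
  {βF : DF →ₗ[k] F →ₗ[k] k} (hF : GrSeg.IsGDual R ℱ 𝒟F βF)

include hM hF

/-- for a surjective graded `f`, an element of the dual of the source vanishing on the kernel is in the range of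
the dual map -/
theorem mem_range_dualMap {f : F →ₗ[R] M} (hfs : Function.Surjective f) (hf : GrLC.IsGrHom ℱ ℳ f)
    {g : DM →ₗ[R] DF} (hg : GrSeg.IsGDualMap βM βF f g) {d : DF}
    (hd : ∀ x ∈ LinearMap.ker f, βF d x = 0) : d ∈ LinearMap.range g := by
  obtain ⟨s, hs⟩ := LinearMap.exists_rightInverse_of_surjective (f.restrictScalars k)
    (LinearMap.range_eq_top.2 hfs)
  have hs' : ∀ y, f (s y) = y := fun y => LinearMap.congr_fun hs y
  have hφ : ∀ x, βF d (s (f x)) = βF d x := by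
    intro x
    rw [← sub_eq_zero, ← map_sub]
    apply hd
    rw [LinearMap.mem_ker, map_sub, hs', sub_self]
  obtain ⟨t, -, ht⟩ := exists_finset 𝒟F d
  obtain ⟨e, he⟩ := exists_rep hM (t.image (fun n => -n)) ((βF d) ∘ₗ s) (by
    intro m hm y hy
    obtain ⟨x, rfl⟩ := hfs y
    change βF d (s (f x)) = 0
    rw [← cp_same ℳ hy, ← grHom_cp hf, hφ, beta_right hF (cp_mem ℱ m x), ht, map_zero, LinearMap.zero_apply]
    intro hmem
    exact hm (Finset.mem_image.2 ⟨-m, hmem, neg_neg m⟩))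
  refine ⟨e, ?_⟩
  apply beta_ext hF
  intro x
  rw [hg, he]
  exact hφ x

include hposR h0R hmR in
theorem isStarEss_of_minimal [IsNoetherian R F] {f : F →ₗ[R] M} (hfs : Function.Surjective f)
    (hf : GrLC.IsGrHom ℱ ℳ f) {g : DM →ₗ[R] DF} (hg : GrSeg.IsGDualMap βM βF f g)
    (hker : LinearMap.ker f ≤ mR.toIdeal • (⊤ : Submodule R F)) : GrLC.IsStarEss 𝒟M 𝒟F g where
  injective := by
    rw [injective_iff_map_eq_zero]
    intro d hd
    apply beta_inj hM
    intro y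
    obtain ⟨x, rfl⟩ := hfs y
    rw [← hg, hd, map_zero, LinearMap.zero_apply]
  grHom := grHom_of_dualMap hM hF hf hg
  essential := by
    intro P hP hP0
    obtain ⟨a, ha⟩ := bounded_below 𝒜 hposR h0R ℱ (M := F)
    have hb : ∀ n > -a, ∀ d ∈ 𝒟F n, d = 0 := by
      intro n hn d hd
      apply hF.eq_zero n d hd
      intro x hx
      rw [ha (-n) (by omega) x hx, map_zero]
    obtain ⟨y, hyP, hy0⟩ := (Submodule.ne_bot_iff P).1 hP0
    obtain ⟨n, ⟨d, hdP, hdn, hd0⟩, hmax⟩ := Int.exists_greatest_of_bdd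
      (P := fun n => ∃ d ∈ P, d ∈ 𝒟F n ∧ d ≠ 0) ⟨-a, by
        rintro n ⟨d, _, hdn, hd0⟩
        by_contra hn
        exact hd0 (hb n (by omega) d hdn)⟩ (by
        by_contra hcon
        push Not at hcon
        apply hy0
        apply eq_zero_of_cp 𝒟F
        intro n
        exact hcon n _ (hP n hyP) (cp_mem 𝒟F n y))
    have hd1 : ∀ (i : ℤ), 0 < i → ∀ r ∈ 𝒜 i, r • d = 0 := by
      intro i hi r hr
      by_contra hne
      have := hmax (i + n) ⟨r • d, P.smul_mem r hdP, smul_mem' 𝒜 𝒟F hr hdn, hne⟩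
      omega
    have hd2 : ∀ x ∈ mR.toIdeal • (⊤ : Submodule R F), βF d x = 0 := by
      intro x hx
      induction hx using Submodule.smul_induction_on' with
      | smul a ha y _ =>
        rw [← hF.map_smul, smul_eq_zero_of_pos 𝒜 mR hmR hd1 ha, map_zero, LinearMap.zero_apply]
      | add x _ y _ hx hy => rw [map_add, hx, hy, add_zero]
    have hd3 := mem_range_dualMap hM hF hfs hf hg (fun x hx => hd2 x (hker hx))
    rw [Submodule.ne_bot_iff]
    exact ⟨d, ⟨hdP, hd3⟩, hd0⟩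

include hposR h0R hmR in
theorem minimal_of_isStarEss {f : F →ₗ[R] M} 
    (hf : GrLC.IsGrHom ℱ ℳ f) {g : DM →ₗ[R] DF} (hg : GrSeg.IsGDualMap βM βF f g)
    (hess : GrLC.IsStarEss 𝒟M 𝒟F g) : LinearMap.ker f ≤ mR.toIdeal • (⊤ : Submodule R F) := by
  intro x hx
  obtain ⟨s, hs, -⟩ := exists_finset ℱ x
  rw [← hs]
  apply Submodule.sum_mem
  intro m _
  by_contra hcon
  have hxm : f (cp ℱ m x) = 0 := by
    rw [grHom_cp hf, LinearMap.mem_ker.1 hx, map_zero]
  have hcon' : cp ℱ m x ∉ (mR.toIdeal • (⊤ : Submodule R F)).restrictScalars k := hcon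
  obtain ⟨G, hG, hG'⟩ := exists_functional_of_notMem (k := k) hcon'
  obtain ⟨d, hdm, hd⟩ := exists_rep_piece hF m G
  have hd1 : ∀ (i : ℤ), 0 < i → ∀ r ∈ 𝒜 i, r • d = 0 := by
    intro i hi r hr
    apply beta_inj hF
    intro y
    rw [hF.map_smul, hd]
    apply hG
    exact cp_mem_smul_top 𝒜 mR (Submodule.smul_mem_smul (mem_mR 𝒜 mR hmR hi hr) trivial) m
  have hsc : ∀ r : R, ∃ c : k, r • d = c • d := by
    intro r
    induction r using r_induction 𝒜 hposR with
    | h0 => exact ⟨0, by rw [zero_smul, zero_smul]⟩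
    | hadd r s hr hs =>
      obtain ⟨c, hc⟩ := hr
      obtain ⟨c', hc'⟩ := hs
      exact ⟨c + c', by rw [add_smul, add_smul, hc, hc']⟩
    | hh j hj r hr =>
      rcases hj.eq_or_lt with rfl | hj
      · obtain ⟨c, rfl⟩ := exists_scalar 𝒜 h0R hr
        exact ⟨c, by rw [algebraMap_smul]⟩
      · exact ⟨0, by rw [hd1 j hj r hr, zero_smul]⟩
  have hd0 : d ≠ 0 := by
    rintro rfl
    apply hG'
    rw [← cp_same ℱ (cp_mem ℱ m x), ← hd, map_zero, LinearMap.zero_apply]
  have hhom : (Submodule.span R {d}).IsHomogeneous 𝒟F := by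
    intro i y hy
    obtain ⟨r, rfl⟩ := Submodule.mem_span_singleton.1 hy
    obtain ⟨c, hc⟩ := hsc r
    change cp 𝒟F i (r • d) ∈ _
    rw [hc, cp_ksmul 𝒜 𝒟F, cp_of_mem 𝒟F hdm]
    split
    · rw [← algebraMap_smul R c d]
      exact Submodule.smul_mem _ _ (Submodule.mem_span_singleton_self d)
    · rw [smul_zero]; exact Submodule.zero_mem _
  have h1 := hess.essential _ hhom (by
    rw [Submodule.ne_bot_iff]
    exact ⟨d, Submodule.mem_span_singleton_self d, hd0⟩)
  obtain ⟨y, ⟨hy1, hy2⟩, hy0⟩ := (Submodule.ne_bot_iff _).1 h1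
  obtain ⟨r, rfl⟩ := Submodule.mem_span_singleton.1 hy1
  obtain ⟨e, he⟩ := hy2
  obtain ⟨c, hc⟩ := hsc r
  have hc0 : c ≠ 0 := by
    rintro rfl
    exact hy0 (by rw [hc, zero_smul])
  have h2 : βF (c • d) (cp ℱ m x) = 0 := by
    rw [← hc, ← he, hg, hxm, map_zero]
  rw [map_smul, LinearMap.smul_apply, hd, cp_same ℱ (cp_mem ℱ m x), smul_eq_mul] at h2
  exact (mul_ne_zero hc0 hG') h2

end

end K993.Hull
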