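import Groth.Agent.GrDual.K993.Hull

/-!
The graded dual of the ring is *injective, and is the *injective hull of the residue field.
-/

set_option autoImplicit false
set_option linter.unusedSectionVars false
universe u

open DirectSum K993.Basic K993.Perp K993.Fin K993.Matlis K993.Hull

namespace K993.Inj

section

variable {k : Type u} [Field k] {R : Type u} [CommRing R] [Algebra k R]
  (𝒜 : ℤ → Submodule k R) [GradedAlgebra 𝒜]
  {D : Type u} [AddCommGroup D] [Module R D] [Module k D] [IsScalarTower k R D]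
  {τ' : Type u} [SetLike τ' D] [AddSubgroupClass τ' D]
  {𝒟 : ℤ → τ'} [Decomposition 𝒟] [SetLike.GradedSMul 𝒜 𝒟]
  {β : D →ₗ[k] R →ₗ[k] k} (h : GrSeg.IsGDual R 𝒜 𝒟 β)

include h

/-- the graded dual of the ring is an injective object of the graded category -/
theorem isStarInj_dual : GrLC.IsStarInj 𝒜 𝒟 := by
  intro A B f hf hfi g hg
  let _i1 : Module k A.carrier := Module.compHom A.carrier (algebraMap k R)
  let _i2 : Module k B.carrier := Module.compHom B.carrier (algebraMap k R)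
  have _i3 : IsScalarTower k R A.carrier := ⟨fun c r x => by
    change (c • r) • x = algebraMap k R c • (r • x)
    rw [smul_smul, Algebra.smul_def]⟩
  have _i4 : IsScalarTower k R B.carrier := ⟨fun c r x => by
    change (c • r) • x = algebraMap k R c • (r • x)
    rw [smul_smul, Algebra.smul_def]⟩
  obtain ⟨l, hl⟩ := LinearMap.exists_leftInverse_of_injective (f.restrictScalars k)
    (LinearMap.ker_eq_bot.2 hfi)
  have hl' : ∀ x, l (f x) = x := fun x => LinearMap.congr_fun hl x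
  let φ : A.carrier →ₗ[k] k := (LinearMap.flip β (1 : R)) ∘ₗ (g.restrictScalars k)
  have hφ : ∀ x, φ x = β (g x) 1 := fun x => rfl
  obtain ⟨H, hH, hH'⟩ := exists_toDual 𝒜 B.gr h 0 (φ ∘ₗ l)
  refine ⟨H, fun n x hx => ?_, ?_⟩
  · have := hH n x hx
    rwa [sub_zero] at this
  · ext a
    apply beta_ext h
    intro r
    rw [LinearMap.comp_apply, hH', ← map_smul, ← grHom_cp hf, LinearMap.comp_apply, hl', hφ, grHom_cp hg,
      beta_cp h, neg_zero, cp_same 𝒜 (SetLike.GradedOne.one_mem), map_smul, h.map_smul, smul_eq_mul, mul_one]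

variable (hposR : ∀ n : ℤ, n < 0 → 𝒜 n = ⊥) (h0R : 𝒜 0 = Submodule.span k {(1 : R)})
  (mR : HomogeneousIdeal 𝒜) (hmR : mR.toIdeal = Ideal.span (⋃ n ∈ Set.Ioi (0 : ℤ), (𝒜 n : Set R)))

include hposR h0R hmR in
theorem isStarInjHull (e : (R ⧸ mR.toIdeal) →ₗ[R] D) (he : Function.Injective e)
    (hegr : GrLC.IsGrHom (GrLC.quotGr 𝒜 mR) 𝒟 e) : GrLC.IsStarInjHull 𝒜 (GrLC.quotGr 𝒜 mR) 𝒟 e where
  injective := he
  grHom := hegr
  starInj := isStarInj_dual 𝒜 h
  essential := by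
    intro P hP hP0
    obtain ⟨y, hyP, hy0⟩ := (Submodule.ne_bot_iff P).1 hP0
    obtain ⟨n, hn⟩ : ∃ n, cp 𝒟 n y ≠ 0 := by
      by_contra hcon
      push Not at hcon
      exact hy0 (eq_zero_of_cp 𝒟 hcon)
    have hdP : cp 𝒟 n y ∈ P := hP n hyP
    obtain ⟨r, hr, hr'⟩ : ∃ r ∈ 𝒜 (-n), β (cp 𝒟 n y) r ≠ 0 := by
      by_contra hcon
      push Not at hcon
      exact hn (h.eq_zero n _ (cp_mem 𝒟 n y) hcon)
    have h1 : r • cp 𝒟 n y ∈ 𝒟 0 := by
      have := smul_mem' 𝒜 𝒟 hr (cp_mem 𝒟 n y)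
      rwa [neg_add_cancel] at this
    have h2 : β (r • cp 𝒟 n y) 1 ≠ 0 := by rwa [h.map_smul, smul_eq_mul, mul_one]
    have h3 : (1 : R) ≠ 0 := by
      intro h0
      apply h2
      rw [h0, map_zero]
    have h4 : e 1 ≠ 0 := by
      intro h0
      rw [← map_zero e] at h0
      have h5 := he h0
      have h6 : (1 : R) ∈ mR.toIdeal := by
        rw [← Ideal.Quotient.eq_zero_iff_mem, map_one, h5]
      have h7 := cp_zero_of_mem_mR 𝒜 hposR h0R mR hmR h6
      rw [cp_same 𝒜 (SetLike.GradedOne.one_mem)] at h7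
      exact h3 h7
    have h5 : e 1 ∈ 𝒟 0 := by
      apply hegr 0
      exact ⟨1, SetLike.GradedOne.one_mem (A := 𝒜), map_one (Ideal.Quotient.mk mR.toIdeal)⟩
    have key : ∀ d ∈ 𝒟 0, β d 1 = 0 → d = 0 := by
      intro d hd hd'
      apply h.eq_zero 0 d hd
      intro x hx
      rw [neg_zero] at hx
      obtain ⟨c, rfl⟩ := exists_scalar 𝒜 h0R hx
      rw [Algebra.algebraMap_eq_smul_one, map_smul, hd', smul_zero]
    have h6 : β (e 1) 1 ≠ 0 := fun h0 => h4 (key _ h5 h0)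
    have h7 : r • cp 𝒟 n y = (β (r • cp 𝒟 n y) 1 / β (e 1) 1) • e 1 := by
      rw [← sub_eq_zero]
      apply key
      · exact sub_mem h1 (ksmul_mem 𝒜 𝒟 _ h5)
      · rw [β.map_sub, LinearMap.sub_apply, β.map_smul (β (r • cp 𝒟 n y) 1 / β (e 1) 1) (e 1),
          LinearMap.smul_apply, smul_eq_mul, div_mul_cancel₀ _ h6, sub_self]
    rw [Submodule.ne_bot_iff]
    refine ⟨r • cp 𝒟 n y, ⟨P.smul_mem r hdP, ?_⟩, ?_⟩
    · rw [h7, ← algebraMap_smul R, ← map_smul]
      exact ⟨_, rfl⟩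
    · intro h0
      rw [h0, map_zero, LinearMap.zero_apply] at h2
      exact h2 rfl

end

end K993.Inj
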