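import Groth.Agent.GrDual.K993.Fin

/-!
Graded Matlis duality: the graded dual of a Noetherian graded module is Artinian, and conversely.
-/

set_option autoImplicit false
set_option linter.unusedSectionVars false
universe u

open DirectSum K993.Basic K993.Perp K993.Fin

namespace K993.Matlis

section

variable {k : Type u} [Field k] {R : Type u} [CommRing R] [Algebra k R]
  (𝒜 : ℤ → Submodule k R) [GradedAlgebra 𝒜]
  (hposR : ∀ n : ℤ, n < 0 → 𝒜 n = ⊥) (h0R : 𝒜 0 = Submodule.span k {(1 : R)})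
  {M : Type u} [AddCommGroup M] [Module R M] [Module k M] [IsScalarTower k R M]
  {τ : Type u} [SetLike τ M] [AddSubgroupClass τ M]
  {ℳ : ℤ → τ} [Decomposition ℳ] [SetLike.GradedSMul 𝒜 ℳ]
  {D : Type u} [AddCommGroup D] [Module R D] [Module k D] [IsScalarTower k R D]
  {τ' : Type u} [SetLike τ' D] [AddSubgroupClass τ' D]
  {𝒟 : ℤ → τ'} [Decomposition 𝒟] [SetLike.GradedSMul 𝒜 𝒟]
  {β : D →ₗ[k] M →ₗ[k] k} (h : GrSeg.IsGDual R ℳ 𝒟 β)

/-- the orthogonal of a homogeneous submodule of the dual, strictly antitone -/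
theorem perp_strictAnti (h' : GrSeg.IsGDual R 𝒟 ℳ β.flip) :
    StrictAnti fun N : HomogeneousSubmodule 𝒜 𝒟 => perp β h.map_smul N.toSubmodule := by
  intro N N' hlt
  rw [lt_iff_le_not_ge] at hlt ⊢
  refine ⟨perp_anti hlt.1, fun hcon => hlt.2 ?_⟩
  exact le_of_perp_le h h' N.is_homogeneous' hcon

include h hposR h0R

theorem isArtinian_dual [IsNoetherian R M] : IsArtinian R D := by
  have h' : GrSeg.IsGDual R 𝒟 ℳ β.flip := flip_isGDual 𝒜 h (finite_piece_of_isNoetherian 𝒜 hposR h0R ℳ)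
  obtain ⟨a, ha⟩ := bounded_below 𝒜 hposR h0R ℳ (M := M)
  have h1 : WellFoundedGT (Submodule R M) := isNoetherian_iff'.1 inferInstance
  refine isArtinian_of_homogeneous 𝒜 hposR 𝒟 (-a) (fun n hn d hd => ?_)
    (perp_strictAnti 𝒜 h h').wellFoundedLT
  apply h.eq_zero n d hd
  intro x hx
  rw [ha (-n) (by omega) x hx, map_zero]

theorem finite_dual [IsArtinian R M] : Module.Finite R D := by
  have h' : GrSeg.IsGDual R 𝒟 ℳ β.flip := flip_isGDual 𝒜 h (finite_piece_of_isArtinian 𝒜 hposR h0R ℳ)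
  have h1 : WellFoundedLT (Submodule R M) := ‹IsArtinian R M›
  exact finite_of_homogeneous 𝒜 𝒟 (perp_strictAnti 𝒜 h h').wellFoundedGT

end

section Emb

variable {k : Type u} [Field k] {R : Type u} [CommRing R] [Algebra k R]
  (𝒜 : ℤ → Submodule k R) [GradedAlgebra 𝒜]
  {M : Type u} [AddCommGroup M] [Module R M] [Module k M] [IsScalarTower k R M]
  {τ : Type u} [SetLike τ M] [AddSubgroupClass τ M]
  (ℳ : ℤ → τ) [Decomposition ℳ] [SetLike.GradedSMul 𝒜 ℳ]
  {D : Type u} [AddCommGroup D] [Module R D] [Module k D] [IsScalarTower k R D]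
  {τ' : Type u} [SetLike τ' D] [AddSubgroupClass τ' D]
  {𝒟 : ℤ → τ'} [Decomposition 𝒟] [SetLike.GradedSMul 𝒜 𝒟]
  {β : D →ₗ[k] R →ₗ[k] k} (h : GrSeg.IsGDual R 𝒜 𝒟 β)

include h

/-- a functional on the piece `M_m` gives a homogeneous map `M → R^*` of degree `-m` -/
theorem exists_toDual (m : ℤ) (φ : M →ₗ[k] k) :
    ∃ f : M →ₗ[R] D, (∀ (g : ℤ) (x : M), x ∈ ℳ g → f x ∈ 𝒟 (g - m)) ∧
      ∀ x r, β (f x) r = φ (cp ℳ m (r • x)) := by
  have key : ∀ x : M, ∃ d : D, ∀ r, β d r = φ (cp ℳ m (r • x)) := by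
    intro x
    obtain ⟨s, -, hs⟩ := exists_finset ℳ x
    have := exists_rep h (s.image (fun n => m - n))
      (φ ∘ₗ (cpk (k := k) 𝒜 ℳ m) ∘ₗ ((LinearMap.toSpanSingleton R M x).restrictScalars k)) ?_
    · exact this
    · intro n hn r hr
      change φ (cp ℳ m (r • x)) = 0
      rw [cp_smul_homog 𝒜 ℳ hr, hs, smul_zero, map_zero]
      intro hmem
      exact hn (Finset.mem_image.2 ⟨m - n, hmem, by ring⟩)
  choose f hf using key
  let F : M →ₗ[R] D :=
    { toFun := f
      map_add' := fun x y => by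
        apply beta_ext h
        intro r
        rw [hf, map_add, LinearMap.add_apply, hf, hf, smul_add, map_add, map_add]
      map_smul' := fun s x => by
        apply beta_ext h
        intro r
        rw [hf, RingHom.id_apply, h.map_smul, hf, smul_smul, smul_eq_mul, mul_comm] }
  refine ⟨F, fun g x hx => ?_, hf⟩
  rw [mem_piece_iff h]
  intro n hn r hr
  change β (f x) r = 0
  rw [hf, cp_ne ℳ (smul_mem' 𝒜 ℳ hr hx) (by omega), map_zero]

/-- an Artinian graded module embeds in a finite sum of shifted duals -/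
theorem exists_embedding [IsArtinian R M] :
    ∃ (t : ℕ) (sh : Fin t → ℤ) (f : M →ₗ[R] (Fin t → D)), Function.Injective f ∧
      ∀ (i : Fin t) (g : ℤ) (x : M), x ∈ ℳ g → f x i ∈ 𝒟 (g + sh i) := by
  classical
  choose f hf hf' using fun p : ℤ × (M →ₗ[k] k) => exists_toDual 𝒜 ℳ h p.1 p.2
  have h1 : WellFoundedLT (Submodule R M) := ‹IsArtinian R M›
  obtain ⟨N, ⟨s, hs⟩, hmin⟩ := WellFounded.has_min h1.wf
    {N : Submodule R M | ∃ s : Finset (ℤ × (M →ₗ[k] k)), N = s.inf (fun p => LinearMap.ker (f p))}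
    ⟨_, ∅, rfl⟩
  have hN : ∀ p, N ≤ LinearMap.ker (f p) := by
    intro p
    have h2 : ¬ ((insert p s).inf (fun p => LinearMap.ker (f p)) < N) := hmin _ ⟨_, rfl⟩
    rw [Finset.inf_insert, ← hs] at h2
    have h3 : LinearMap.ker (f p) ⊓ N = N := by
      by_contra hne
      exact h2 (lt_of_le_of_ne inf_le_right hne)
    rw [← h3]
    exact inf_le_left
  let e := s.equivFin
  refine ⟨s.card, fun i => -(e.symm i).1.1, LinearMap.pi (fun i => f (e.symm i).1), ?_, ?_⟩
  · rw [injective_iff_map_eq_zero]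
    intro x hx
    have hxN : x ∈ N := by
      rw [hs, Submodule.mem_finsetInf]
      intro p hp
      have := congrFun hx (e ⟨p, hp⟩)
      simpa using this
    apply eq_zero_of_cp ℳ
    intro m
    by_contra hne
    obtain ⟨φ, hφ⟩ := exists_functional_ne (k := k) hne
    have h2 := hf' (m, φ) x 1
    rw [LinearMap.mem_ker.1 (hN (m, φ) hxN), one_smul] at h2
    apply hφ
    rw [← h2, map_zero, LinearMap.zero_apply]
  · intro i g x hx
    have := hf (e.symm i).1 g x hx
    rwa [sub_eq_add_neg] at this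

end Emb

end K993.Matlis
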