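import Groth.Agent.GrDual.K993.Basic

/-!
Reflexivity of graded duals with finite-dimensional pieces, orthogonal submodules, dual maps.
-/

set_option autoImplicit false
set_option linter.unusedSectionVars false
universe u

open DirectSum K993.Basic

namespace K993.Perp

section Flip

variable {k : Type u} [Field k] {R : Type u} [CommRing R] [Algebra k R]
  (𝒜 : ℤ → Submodule k R) [GradedAlgebra 𝒜]
  {M : Type u} [AddCommGroup M] [Module R M] [Module k M] [IsScalarTower k R M]
  {τ : Type u} [SetLike τ M] [AddSubgroupClass τ M]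
  {ℳ : ℤ → τ} [Decomposition ℳ] [SetLike.GradedSMul 𝒜 ℳ]
  {D : Type u} [AddCommGroup D] [Module R D] [Module k D] [IsScalarTower k R D]
  {τ' : Type u} [SetLike τ' D] [AddSubgroupClass τ' D]
  {𝒟 : ℤ → τ'} [Decomposition 𝒟] [SetLike.GradedSMul 𝒜 𝒟]
  {β : D →ₗ[k] M →ₗ[k] k} (h : GrSeg.IsGDual R ℳ 𝒟 β)

include h in
/-- reflexivity: a graded module with finite-dimensional pieces is the graded dual of its graded dual -/
theorem flip_isGDual (hfin : ∀ n, Module.Finite k (kp (k := k) 𝒜 ℳ n)) :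
    GrSeg.IsGDual R 𝒟 ℳ β.flip where
  map_smul r x d := by
    rw [LinearMap.flip_apply, LinearMap.flip_apply, h.map_smul]
  vanish n x hx m hm d hd := by
    rw [LinearMap.flip_apply]
    exact h.vanish m d hd n (by omega) x hx
  eq_zero n x hx H := by
    by_contra hne
    obtain ⟨d, hd, hd'⟩ := exists_beta_ne_homog h hne hx
    exact hd' (H d hd)
  exists_eq n G := by
    have := hfin n
    let V := kp (k := k) 𝒜 ℳ n
    let pr : M →ₗ[k] V := LinearMap.codRestrict V (cpk (k := k) 𝒜 ℳ n) (fun x => cp_mem ℳ n x)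
    have hpr : ∀ (x : M) (hx : x ∈ ℳ n), pr x = ⟨x, hx⟩ := by
      intro x hx
      apply Subtype.ext
      exact cp_same ℳ hx
    choose e he he' using fun φ : V →ₗ[k] k => exists_rep_piece h n (φ ∘ₗ pr)
    have hpp : ∀ x, pr (cp ℳ n x) = pr x := by
      intro x
      apply Subtype.ext
      exact cp_same ℳ (cp_mem ℳ n x)
    let E : (V →ₗ[k] k) →ₗ[k] D :=
      { toFun := e
        map_add' := fun φ ψ => by
          apply beta_ext h
          intro x
          rw [he', map_add, LinearMap.add_apply, he', he']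
          rfl
        map_smul' := fun c φ => by
          apply beta_ext h
          intro x
          rw [he', map_smul, LinearMap.smul_apply, he']
          rfl }
    obtain ⟨v, hv⟩ := (Module.evalEquiv k V).surjective (G ∘ₗ E)
    refine ⟨v, v.2, fun d hd => ?_⟩
    rw [LinearMap.flip_apply]
    have h1 := LinearMap.congr_fun hv ((β d) ∘ₗ V.subtype)
    rw [Module.evalEquiv_apply] at h1
    change β d v = G (E ((β d) ∘ₗ V.subtype)) at h1
    rw [h1]
    congr 1
    apply beta_ext h
    intro x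
    change β (e ((β d) ∘ₗ V.subtype)) x = β d x
    rw [he', beta_left h hd, neg_neg, LinearMap.comp_apply, hpp]
    rfl

variable {𝒜}

variable (β) in
/-- the orthogonal of a submodule -/
def perp (hsm : ∀ (r : R) (d : D) (x : M), β (r • d) x = β d (r • x)) (N : Submodule R D) :
    Submodule R M where
  carrier := {x | ∀ d ∈ N, β d x = 0}
  zero_mem' d _ := map_zero _
  add_mem' {x y} hx hy d hd := by rw [map_add, hx d hd, hy d hd, add_zero]
  smul_mem' r x hx d hd := by rw [← hsm]; exact hx _ (N.smul_mem r hd)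

theorem mem_perp {hsm : ∀ (r : R) (d : D) (x : M), β (r • d) x = β d (r • x)} {N : Submodule R D} {x : M} :
    x ∈ perp β hsm N ↔ ∀ d ∈ N, β d x = 0 := Iff.rfl

theorem perp_anti {hsm : ∀ (r : R) (d : D) (x : M), β (r • d) x = β d (r • x)} {N N' : Submodule R D}
    (hN : N ≤ N') : perp β hsm N' ≤ perp β hsm N := fun _ hx d hd => hx d (hN hd)

/-- a homogeneous submodule of the dual is determined by its orthogonal -/
theorem mem_of_perp (h : GrSeg.IsGDual R ℳ 𝒟 β) (h' : GrSeg.IsGDual R 𝒟 ℳ β.flip)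
    {N : Submodule R D} (hN : N.IsHomogeneous 𝒟) {d : D}
    (hd : ∀ x ∈ perp β h.map_smul N, β d x = 0) : d ∈ N := by
  rw [hN.mem_iff 𝒟]
  intro n
  change cp 𝒟 n d ∈ N
  by_contra hne
  have hne' : cp 𝒟 n d ∉ N.restrictScalars k := hne
  obtain ⟨G, hG, hG'⟩ := exists_functional_of_notMem (k := k) hne'
  obtain ⟨x, hx, hx'⟩ := exists_rep_piece h' n G
  have hxN : x ∈ perp β h.map_smul N := by
    intro d' hd'
    have := hx' d'
    rw [LinearMap.flip_apply] at this
    rw [this]
    exact hG _ ((hN.mem_iff 𝒟).1 hd' n)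
  have h1 := hd x hxN
  have h2 := hx' d
  rw [LinearMap.flip_apply, h1] at h2
  exact hG' h2.symm

theorem le_of_perp_le (h : GrSeg.IsGDual R ℳ 𝒟 β) (h' : GrSeg.IsGDual R 𝒟 ℳ β.flip)
    {N N' : Submodule R D} (hN' : N'.IsHomogeneous 𝒟)
    (hle : perp β h.map_smul N' ≤ perp β h.map_smul N) : N ≤ N' := by
  intro d hd
  exact mem_of_perp h h' hN' (fun x hx => hle hx d hd)

end Flip

section DualMap

variable {k : Type u} [Field k] {R : Type u} [CommRing R] [Algebra k R]
  {M : Type u} [AddCommGroup M] [Module R M] [Module k M] [IsScalarTower k R M]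
  {τ : Type u} [SetLike τ M] [AddSubgroupClass τ M]
  {ℳ : ℤ → τ} [Decomposition ℳ]
  {DM : Type u} [AddCommGroup DM] [Module R DM] [Module k DM] [IsScalarTower k R DM]
  {τM : Type u} [SetLike τM DM] [AddSubgroupClass τM DM]
  {𝒟M : ℤ → τM} [Decomposition 𝒟M]
  {βM : DM →ₗ[k] M →ₗ[k] k} (hM : GrSeg.IsGDual R ℳ 𝒟M βM)
  {F : Type u} [AddCommGroup F] [Module R F] [Module k F] [IsScalarTower k R F]
  {σ : Type u} [SetLike σ F] [AddSubgroupClass σ F]
  {ℱ : ℤ → σ} [Decomposition ℱ]
  {DF : Type u} [AddCommGroup DF] [Module R DF] [Module k DF] [IsScalarTower k R DF]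
  {τF : Type u} [SetLike τF DF] [AddSubgroupClass τF DF]
  {𝒟F : ℤ → τF} [Decomposition 𝒟F]
  {βF : DF →ₗ[k] F →ₗ[k] k} (hF : GrSeg.IsGDual R ℱ 𝒟F βF)

include hM hF

/-- a dual map of a graded map is graded -/
theorem grHom_of_dualMap {f : F →ₗ[R] M} (hf : GrLC.IsGrHom ℱ ℳ f) {g : DM →ₗ[R] DF}
    (hg : GrSeg.IsGDualMap βM βF f g) : GrLC.IsGrHom 𝒟M 𝒟F g := by
  intro n d hd
  rw [mem_piece_iff hF]
  intro m hm x hx
  rw [hg]
  exact hM.vanish n d hd m hm _ (hf m x hx)

/-- existence of the dual map -/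
theorem exists_dualMap {f : F →ₗ[R] M} (hf : GrLC.IsGrHom ℱ ℳ f) :
    ∃ g : DM →ₗ[R] DF, GrLC.IsGrHom 𝒟M 𝒟F g ∧ GrSeg.IsGDualMap βM βF f g := by
  have key : ∀ d : DM, ∃ e : DF, ∀ x, βF e x = βM d (f x) := by
    intro d
    obtain ⟨s, -, hs⟩ := exists_finset 𝒟M d
    apply exists_rep hF (s.image (fun n => -n)) ((βM d) ∘ₗ (f.restrictScalars k))
    intro m hm x hx
    change βM d (f x) = 0
    rw [beta_right hM (hf m x hx), hs (-m), map_zero, LinearMap.zero_apply]
    intro hmem
    exact hm (Finset.mem_image.2 ⟨-m, hmem, neg_neg m⟩)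
  choose g hg using key
  let G : DM →ₗ[R] DF :=
    { toFun := g
      map_add' := fun d d' => by
        apply beta_ext hF
        intro x
        rw [hg, map_add, map_add, LinearMap.add_apply, LinearMap.add_apply, hg, hg]
      map_smul' := fun r d => by
        apply beta_ext hF
        intro x
        rw [hg, RingHom.id_apply, hM.map_smul, hF.map_smul, hg, f.map_smul] }
  have hG : GrSeg.IsGDualMap βM βF f G := hg
  exact ⟨G, grHom_of_dualMap hM hF hf hG, hG⟩

omit hM in
theorem dualMap_unique {f : F →ₗ[R] M} {g g' : DM →ₗ[R] DF}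
    (hg : GrSeg.IsGDualMap βM βF f g) (hg' : GrSeg.IsGDualMap βM βF f g') : g = g' := by
  ext d
  apply beta_ext hF
  intro x
  rw [hg, hg']

end DualMap

end K993.Perp
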