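import Groth.Agent.GrLC.K993.TopGen
import Groth.Agent.GrDual.K993.Basic

/-!
# Graded duality in top degree: `(Hⁿ(M))^* ≅ Hom(M, K)`
-/

set_option autoImplicit false
set_option linter.unusedSectionVars false
set_option linter.style.haveILetI false
universe u

open GrLC DirectSum K963.Iface K993.Mu K993.TopH K993.TopGen K993.Basic

namespace K993.TopDual

variable {k : Type u} [Field k] {R : Type u} [CommRing R] [Algebra k R] {𝒜 : ℤ → Submodule k R} [GradedAlgebra 𝒜]
  {a : HomogeneousIdeal 𝒜} {n : ℕ}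
  {I : StarInjRes 𝒜 𝒜} [Module k (I.H a n)] [IsScalarTower k R (I.H a n)] [DirectSum.Decomposition (I.Hgr a n)]
  {K : Type u} [AddCommGroup K] [Module R K] [Module k K] [IsScalarTower k R K] {𝒦 : ℤ → AddSubgroup K}
  [DirectSum.Decomposition 𝒦] [SetLike.GradedSMul 𝒜 𝒦] {βK : K →ₗ[k] I.H a n →ₗ[k] k}
  {M : Type u} [AddCommGroup M] [Module R M] {ℳ : ℤ → AddSubgroup M}
  [DirectSum.Decomposition ℳ] [SetLike.GradedSMul 𝒜 ℳ]
  {EM : StarInjRes 𝒜 ℳ} [Module k (EM.H a n)] [IsScalarTower k R (EM.H a n)] [DirectSum.Decomposition (EM.Hgr a n)]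
  {D : Type u} [AddCommGroup D] [Module R D] [Module k D] [IsScalarTower k R D] {𝒟 : ℤ → AddSubgroup D}
  [DirectSum.Decomposition 𝒟] [SetLike.GradedSMul 𝒜 𝒟] {βD : D →ₗ[k] EM.H a n →ₗ[k] k}

section map

variable (hK : GrSeg.IsGDual R (I.Hgr a n) 𝒦 βK) (hD : GrSeg.IsGDual R (EM.Hgr a n) 𝒟 βD)

/-- the functional attached to `d` and `x` -/
noncomputable def fn (βD : D →ₗ[k] EM.H a n →ₗ[k] k) (I : StarInjRes 𝒜 𝒜) [Module k (I.H a n)] [IsScalarTower k R (I.H a n)]
    (d : D) (x : M) : I.H a n →ₗ[k] k :=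
  (βD d).comp ((mu I EM a n x).restrictScalars k)

theorem fn_apply (d : D) (x : M) (h : I.H a n) : fn βD I d x h = βD d (mu I EM a n x h) := rfl

include hD in
theorem fn_vanish {j e : ℤ} {d : D} (hd : d ∈ 𝒟 j) {x : M} (hx : x ∈ ℳ e) {m : ℤ} (hm : m ≠ -(j + e))
    {h : I.H a n} (hh : h ∈ I.Hgr a n m) : fn βD I d x h = 0 :=
  hD.vanish j d hd (m + e) (by omega) _ (mu_mem I EM a n hx hh)

include hK hD in
theorem exists_rep' (d : D) (x : M) : ∃ y : K, ∀ h, βK y h = fn βD I d x h := by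
  induction d using hom_induction 𝒟 with
  | h0 => exact ⟨0, fun h => by rw [fn_apply]; simp⟩
  | hadd d d' h1 h2 =>
    obtain ⟨y, hy⟩ := h1
    obtain ⟨y', hy'⟩ := h2
    exact ⟨y + y', fun h => by
      rw [map_add, LinearMap.add_apply, hy, hy', fn_apply, fn_apply, fn_apply, map_add, LinearMap.add_apply]⟩
  | hh j d hd =>
    induction x using hom_induction ℳ with
    | h0 => exact ⟨0, fun h => by rw [fn_apply]; simp⟩
    | hadd x x' h1 h2 =>
      obtain ⟨y, hy⟩ := h1
      obtain ⟨y', hy'⟩ := h2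
      exact ⟨y + y', fun h => by
        rw [map_add, LinearMap.add_apply, hy, hy', fn_apply, fn_apply, fn_apply, map_add, LinearMap.add_apply, map_add]⟩
    | hh e x hx =>
      exact exists_rep hK {-(j + e)} (fn βD I d x) fun m hm h hh =>
        fn_vanish hD hd hx (by simpa using hm) hh

/-- the value -/
noncomputable def val (d : D) (x : M) : K := (exists_rep' hK hD d x).choose

theorem val_spec (d : D) (x : M) (h : I.H a n) : βK (val hK hD d x) h = βD d (mu I EM a n x h) :=
  (exists_rep' hK hD d x).choose_spec h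

theorem val_unique {d : D} {x : M} {y : K} (hy : ∀ h, βK y h = βD d (mu I EM a n x h)) : val hK hD d x = y :=
  beta_ext hK fun h => by rw [val_spec, hy]

/-- the duality map -/
noncomputable def Phi : D →ₗ[R] (M →ₗ[R] K) where
  toFun d :=
    { toFun := val hK hD d
      map_add' := fun x y => val_unique hK hD fun h => by
        rw [map_add, LinearMap.add_apply, val_spec, val_spec, map_add, LinearMap.add_apply, map_add]
      map_smul' := fun r x => val_unique hK hD fun h => by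
        rw [RingHom.id_apply, hK.map_smul, val_spec, map_smul (mu I EM a n x), map_smul (mu I EM a n),
          LinearMap.smul_apply] }
  map_add' d d' := LinearMap.ext fun x => val_unique hK hD fun h => by
    change βK (val hK hD d x + val hK hD d' x) h = _
    rw [map_add, LinearMap.add_apply, val_spec, val_spec, map_add, LinearMap.add_apply]
  map_smul' r d := LinearMap.ext fun x => val_unique hK hD fun h => by
    change βK (r • val hK hD d x) h = _
    rw [hK.map_smul, val_spec, hD.map_smul, map_smul (mu I EM a n x)]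

theorem Phi_spec (d : D) (x : M) (h : I.H a n) : βK (Phi hK hD d x) h = βD d (mu I EM a n x h) :=
  val_spec hK hD d x h

theorem Phi_mem {j : ℤ} {d : D} (hd : d ∈ 𝒟 j) : Phi hK hD d ∈ (homDeg 𝒜 ℳ 𝒦 j).toAddSubgroup := by
  intro e x hx
  rw [mem_piece_iff hK]
  intro m hm h hh
  rw [Phi_spec]
  exact fn_vanish (I := I) hD hd hx (by omega) hh

end map

section bij

variable [IsNoetherianRing R] [Module.Finite R M]
variable (hK : GrSeg.IsGDual R (I.Hgr a n) 𝒦 βK) (hD : GrSeg.IsGDual R (EM.Hgr a n) 𝒟 βD)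
  (hn : ringKrullDim R ≤ n)

include hn in
theorem Phi_injective : Function.Injective (Phi hK hD) := by
  rw [injective_iff_map_eq_zero]
  intro d hd
  apply beta_inj hD
  have h1 : ∀ (x : M) (h : I.H a n), βD d (mu I EM a n x h) = 0 := fun x h => by
    rw [← Phi_spec hK hD, hd]; simp
  have h2 : ∀ z : EM.H a n, ∀ r : R, βD d (r • z) = 0 := by
    intro z
    refine Submodule.span_induction ?_ ?_ ?_ ?_ (span_mu I EM a hn z)
    · rintro _ ⟨x, h, rfl⟩ r
      rw [← LinearMap.smul_apply, ← map_smul, h1]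
    · intro r; rw [smul_zero, map_zero]
    · intro x y _ _ hx hy r
      rw [smul_add, map_add, hx, hy, add_zero]
    · intro s x _ hx r
      rw [smul_smul, hx]
  intro z
  have := h2 z 1
  rwa [one_smul] at this

attribute [local instance] K761.Gr.freeDec K761.Gr.freeGSMul

include hn in
theorem exists_of_homog {j : ℤ} {ψ : M →ₗ[R] K} (hψ : IsGrHomDeg ℳ 𝒦 ψ j) : ∃ d : D, Phi hK hD d = ψ := by
  obtain ⟨X, _, deg, v, hv, hsurj⟩ := exists_cover R ℳ
  obtain ⟨G⟩ := nonempty_res 𝒜 (K761.Gr.freeGr 𝒜 deg)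
  letI : Module k (G.H a n) := Module.compHom _ (algebraMap k R)
  haveI : IsScalarTower k R (G.H a n) := ⟨fun c r z => by
    rw [Algebra.smul_def, mul_smul]
    rfl⟩
  let π : (X →₀ R) →ₗ[R] M := Finsupp.linearCombination R v
  let Hπ := Hmap G EM a n π (cover_deg deg v hv)
  have hHπ : Function.Surjective Hπ := (surj_and_exact deg v hv hsurj G EM a hn).1
  let Λ : G.H a n →ₗ[k] k := ∑ x : X, (βK (ψ (v x))).comp ((coord deg I G a n x).restrictScalars k)
  have hΛ : ∀ z, Λ z = ∑ x : X, βK (ψ (v x)) (coord deg I G a n x z) := fun z => by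
    simp only [Λ, LinearMap.sum_apply, LinearMap.comp_apply, LinearMap.restrictScalars_apply]
  have hΛmu : ∀ (y : X →₀ R) (h : I.H a n), Λ (mu I G a n y h) = βK (ψ (π y)) h := by
    intro y h
    rw [hΛ]
    simp only [coord_mu, ← hK.map_smul, ← map_smul]
    rw [← LinearMap.sum_apply, ← map_sum, ← map_sum]
    congr 3
    simp only [π, Finsupp.linearCombination_apply]
    rw [Finsupp.sum_fintype]
    intro i; rw [zero_smul]
  have hker : LinearMap.ker (Hπ.restrictScalars k) ≤ LinearMap.ker Λ := by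
    intro z hz
    have h3 : ∀ r : R, Λ (r • z) = 0 := by
      refine Submodule.span_induction ?_ ?_ ?_ ?_ (ker_mu deg v hv hsurj I G EM a hn z hz)
      · rintro _ ⟨y, h, hy, rfl⟩ r
        rw [← LinearMap.smul_apply, ← map_smul, hΛmu, map_smul]
        have : π y = 0 := hy
        rw [this, smul_zero, map_zero, map_zero, LinearMap.zero_apply]
      · intro r; rw [smul_zero, map_zero]
      · intro x y _ _ hx hy r
        rw [smul_add, map_add, hx, hy, add_zero]
      · intro s x _ hx r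
        rw [smul_smul, hx]
    have := h3 1
    rwa [one_smul] at this
  let e := LinearMap.quotKerEquivOfSurjective (Hπ.restrictScalars k) hHπ
  let Λ' : EM.H a n →ₗ[k] k := ((LinearMap.ker (Hπ.restrictScalars k)).liftQ Λ hker).comp e.symm.toLinearMap
  have hΛ' : ∀ z, Λ' (Hπ z) = Λ z := by
    intro z
    have : e.symm (Hπ z) = Submodule.Quotient.mk z := by
      rw [LinearEquiv.symm_apply_eq]
      rfl
    change (LinearMap.ker (Hπ.restrictScalars k)).liftQ Λ hker (e.symm (Hπ z)) = _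
    rw [this, Submodule.liftQ_apply]
  have hsupp : ∀ m ∉ ({-j} : Finset ℤ), ∀ z ∈ EM.Hgr a n m, Λ' z = 0 := by
    intro m hm z hz
    obtain ⟨w, rfl⟩ := hHπ z
    letI := K963.Cat.Hdec G a n
    have h4 := map_proj_deg (ℳ := G.Hgr a n) (𝒩 := EM.Hgr a n) Hπ (d := 0)
      (fun g x hx => Hmap_mem G EM a n (cover_deg deg v hv) hx) m w
    rw [add_zero, K963.Dec.proj_of_mem (EM.Hgr a n) hz] at h4
    rw [← h4, hΛ', hΛ]
    refine Finset.sum_eq_zero fun x _ => ?_
    have h5 : coord deg I G a n x (K963.Dec.proj (G.Hgr a n) m w) ∈ I.Hgr a n (m + -deg x) :=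
      coord_mem deg I G a n x (K963.Dec.proj_mem (G.Hgr a n) m w)
    refine hK.vanish (deg x + j) _ (hψ _ _ (hv x)) _ ?_ _ h5
    intro h6
    apply hm
    rw [Finset.mem_singleton]
    omega
  obtain ⟨d, hd⟩ := exists_rep hD {-j} Λ' hsupp
  refine ⟨d, LinearMap.ext fun x => beta_ext hK fun h => ?_⟩
  obtain ⟨y, rfl⟩ := hsurj x
  have h6 : mu I EM a n (π y) h = Hπ (mu I G a n y h) := (Hmap_mu I G EM a n (cover_deg deg v hv) y h).symm
  rw [Phi_spec, hd]
  change Λ' (mu I EM a n (π y) h) = βK (ψ (π y)) h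
  rw [h6, hΛ', hΛmu]

include hn in
theorem Phi_surjective : Function.Surjective (Phi hK hD) := by
  intro ψ
  obtain ⟨S, -, hS⟩ := K761.Gr.exists_finset_homPr 𝒜 ℳ 𝒦 ψ
  rw [← hS S subset_rfl, ← LinearMap.mem_range]
  refine Submodule.sum_mem _ fun j _ => ?_
  obtain ⟨d, hd⟩ := exists_of_homog hK hD hn (K761.Gr.homPr_isGrHomDeg 𝒜 ℳ 𝒦 ψ j)
  exact ⟨d, hd⟩

include hK hD hn in
theorem main : ∃ ε : D ≃ₗ[R] (M →ₗ[R] K),
    IsGrHom 𝒟 (fun d : ℤ => (homDeg 𝒜 ℳ 𝒦 d).toAddSubgroup) ε.toLinearMap :=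
  ⟨LinearEquiv.ofBijective (Phi hK hD) ⟨Phi_injective hK hD hn, Phi_surjective hK hD hn⟩,
    fun _ _ hd => Phi_mem hK hD hd⟩

end bij

end K993.TopDual
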